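import Mathlib

set_option autoImplicit false

open MvPolynomial

namespace Groth.Agent.Forms14

universe u

variable {k : Type u} [Field k]

theorem finrank_homogeneousSubmodule (r n : ℕ) :
    Module.finrank k (homogeneousSubmodule (Fin r) k n) = Nat.choose (r + n - 1) n := by
  classical
  rw [homogeneousSubmodule_eq_finsupp_supported]
  let e : Sym (Fin r) n ≃ ({d : Fin r →₀ ℕ | d.degree = n} : Set (Fin r →₀ ℕ)) :=
    (Sym.equivNatSum (Fin r) n).trans (Equiv.subtypeEquivRight fun d => by
      simp [Finsupp.degree_apply, Finsupp.sum])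
  let b := (MvPolynomial.basisRestrictSupport k
    ({d : Fin r →₀ ℕ | d.degree = n} : Set (Fin r →₀ ℕ))).reindex e.symm
  rw [show Nat.choose (r + n - 1) n = Fintype.card (Sym (Fin r) n) by
    rw [Sym.card_sym_eq_choose, Fintype.card_fin]]
  exact Module.finrank_eq_card_basis b

theorem finite_homogeneousSubmodule (r n : ℕ) : Module.Finite k (homogeneousSubmodule (Fin r) k n) := by
  classical
  rw [homogeneousSubmodule_eq_finsupp_supported]
  let e : Sym (Fin r) n ≃ ({d : Fin r →₀ ℕ | d.degree = n} : Set (Fin r →₀ ℕ)) :=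
    (Sym.equivNatSum (Fin r) n).trans (Equiv.subtypeEquivRight fun d => by
      simp [Finsupp.degree_apply, Finsupp.sum])
  exact Module.Finite.of_basis ((MvPolynomial.basisRestrictSupport k
    ({d : Fin r →₀ ℕ | d.degree = n} : Set (Fin r →₀ ℕ))).reindex e.symm)

theorem finrank_hypersurface (r m : ℕ) (f : MvPolynomial (Fin (r + 1)) k) (hf : f.IsHomogeneous m)
    (hf0 : f ≠ 0) (t : ℕ) (ht : m ≤ t) :
    Module.finrank k
        (Submodule.map ((Ideal.Quotient.mkₐ k (Ideal.span {f})).toLinearMap)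
          (homogeneousSubmodule (Fin (r + 1)) k t)) =
      Nat.choose (t + r) r - Nat.choose (t + r - m) r := by
  let V := homogeneousSubmodule (Fin (r + 1)) k t
  let W := homogeneousSubmodule (Fin (r + 1)) k (t - m)
  have : Module.Finite k V := finite_homogeneousSubmodule _ _
  let q : V →ₗ[k] MvPolynomial (Fin (r + 1)) k ⧸ Ideal.span {f} :=
    (Ideal.Quotient.mkₐ k (Ideal.span {f})).toLinearMap ∘ₗ V.subtype
  let μ : W →ₗ[k] V := (LinearMap.mulLeft k f ∘ₗ W.subtype).codRestrict V fun h => by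
    have h1 := hf.mul (h.2 : (h : MvPolynomial (Fin (r + 1)) k).IsHomogeneous (t - m))
    rwa [Nat.add_sub_cancel' ht] at h1
  have hμ : Function.Injective μ := fun a b hab => Subtype.ext (mul_left_cancel₀ hf0 (congrArg Subtype.val hab))
  have hker : LinearMap.ker q = LinearMap.range μ := by
    ext g
    constructor
    · intro hg
      obtain ⟨h, hh⟩ := Ideal.mem_span_singleton.1 (Ideal.Quotient.eq_zero_iff_mem.1 (LinearMap.mem_ker.1 hg :))
      refine ⟨⟨homogeneousComponent (t - m) h, homogeneousComponent_isHomogeneous _ _⟩, Subtype.ext ?_⟩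
      change f * homogeneousComponent (t - m) h = g.1
      have hdec : homogeneousComponent t g.1 = homogeneousComponent t (f * h) := congrArg _ hh
      rw [homogeneousComponent_of_mem g.2, if_pos rfl] at hdec
      rw [hdec]
      conv_rhs => rw [← sum_homogeneousComponent h, Finset.mul_sum, map_sum]
      rw [Finset.sum_congr rfl fun i _ => homogeneousComponent_of_mem (hf.mul (homogeneousComponent_isHomogeneous i h))]
      have he : ∀ i, (t = m + i) ↔ i = t - m := fun i => by omega
      simp only [he, Finset.sum_ite_eq', Finset.mem_range]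
      split_ifs with hlt
      · rfl
      · rw [homogeneousComponent_eq_zero _ _ (by omega), mul_zero]
    · rintro ⟨h, rfl⟩
      refine LinearMap.mem_ker.2 ?_
      exact Ideal.Quotient.eq_zero_iff_mem.2 (Ideal.mul_mem_right _ _ (Ideal.mem_span_singleton_self f))
  have hrange : LinearMap.range q = Submodule.map ((Ideal.Quotient.mkₐ k (Ideal.span {f})).toLinearMap) V := by
    rw [LinearMap.range_comp, Submodule.range_subtype]
  have h := q.finrank_range_add_finrank_ker
  rw [hker, LinearMap.finrank_range_of_inj hμ, hrange, finrank_homogeneousSubmodule, finrank_homogeneousSubmodule] at h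
  rw [show t + r - m = r + (t - m) by omega, show t + r = r + t by omega, Nat.choose_symm_add (a := r) (b := t), Nat.choose_symm_add (a := r) (b := t - m)]
  simp only [show r + 1 + t - 1 = r + t by omega, show r + 1 + (t - m) - 1 = r + (t - m) by omega] at h
  change _ = _
  exact Nat.eq_sub_of_add_eq h

/-- Linear forms separate a point from a non-proportional one. -/
theorem exists_linear_separate {r : ℕ} {v w : Fin r → k} (hv : v ≠ 0) (hw : ∀ c : k, v ≠ c • w) :
    ∃ l : MvPolynomial (Fin r) k, l.IsHomogeneous 1 ∧ eval v l ≠ 0 ∧ eval w l = 0 := by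
  have hnot : v ∉ Submodule.span k {w} := fun h => by
    obtain ⟨c, hc⟩ := Submodule.mem_span_singleton.1 h
    exact hw c hc.symm
  obtain ⟨φ, hφv, hφ⟩ := Submodule.exists_dual_map_eq_bot_of_notMem hnot inferInstance
  refine ⟨∑ i, C (φ (Pi.single i 1)) * X i, IsHomogeneous.sum _ _ _ fun i _ => (isHomogeneous_X k i).C_mul _, ?_, ?_⟩
  all_goals
    have key : ∀ x : Fin r → k, eval x (∑ i, C (φ (Pi.single i 1)) * X i) = φ x := fun x => by
      conv_rhs => rw [pi_eq_sum_univ' x]
      simp [map_sum, mul_comm]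
    rw [key]
  · exact hφv
  · have : φ w ∈ (Submodule.span k {w}).map φ := ⟨w, Submodule.mem_span_singleton_self w, rfl⟩
    rwa [hφ, Submodule.mem_bot] at this

theorem finrank_vanishing (n : ℕ) (hn : 3 ≤ n) (Λ : Finset (Fin 3 → k)) (hcard : Λ.card = n)
    (h0 : ∀ v ∈ Λ, v ≠ 0) (hdist : ∀ v ∈ Λ, ∀ w ∈ Λ, v ≠ w → LinearIndependent k ![v, w]) :
    Module.finrank k ↥(homogeneousSubmodule (Fin 3) k (n - 1) ⊓ ⨅ v ∈ Λ, LinearMap.ker (aeval v).toLinearMap) =
      Nat.choose (n + 1) 2 - n := by
  classical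
  let V := homogeneousSubmodule (Fin 3) k (n - 1)
  have : Module.Finite k V := finite_homogeneousSubmodule _ _
  let E : V →ₗ[k] (Λ → k) := LinearMap.pi fun v => (aeval (R := k) v.1).toLinearMap ∘ₗ V.subtype
  have hsurj : LinearMap.range E = ⊤ := by
    rw [eq_top_iff]
    intro y _
    rw [pi_eq_sum_univ' y]
    refine Submodule.sum_mem _ fun v _ => Submodule.smul_mem _ _ ?_
    have hne : ∀ w : {w // w ∈ Λ.erase v.1}, ∀ c : k, v.1 ≠ c • w.1 := by
      intro w c hc
      obtain ⟨hwv, hw⟩ := Finset.mem_erase.1 w.2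
      have := (LinearIndependent.pair_iff.1 (hdist v.1 v.2 w.1 hw (Ne.symm hwv))) 1 (-c) (by simp only [neg_smul, one_smul]; exact add_neg_eq_zero.2 hc)
      exact one_ne_zero this.1
    choose l hl1 hl2 hl3 using fun w : {w // w ∈ Λ.erase v.1} => exists_linear_separate (h0 v.1 v.2) (hne w)
    let p := ∏ w, l w
    have hp : p ∈ V := by
      have := IsHomogeneous.prod Finset.univ l (fun _ => 1) fun w _ => hl1 w
      rw [Finset.sum_const, Finset.card_univ, Fintype.card_coe, Finset.card_erase_of_mem v.2, hcard, smul_eq_mul, mul_one] at this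
      exact this
    have hpv : eval v.1 p ≠ 0 := by
      rw [map_prod]; exact Finset.prod_ne_zero_iff.2 fun w _ => hl2 w
    refine ⟨(eval v.1 p)⁻¹ • ⟨p, hp⟩, funext fun u => ?_⟩
    simp only [E, LinearMap.pi_apply, LinearMap.comp_apply, map_smul, Submodule.subtype_apply,
      AlgHom.toLinearMap_apply, aeval_eq_eval, smul_eq_mul]
    rcases eq_or_ne u v with rfl | hne'
    · simp [hpv]
    · have hu : u.1 ∈ Λ.erase v.1 := Finset.mem_erase.2 ⟨fun e => hne' (Subtype.ext e), u.2⟩
      have h0' : eval u.1 p = 0 := by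
        rw [map_prod]; exact Finset.prod_eq_zero (Finset.mem_univ ⟨u.1, hu⟩) (hl3 ⟨u.1, hu⟩)
      simp [h0', hne']
  have hker : LinearMap.ker E = Submodule.comap V.subtype (⨅ v ∈ Λ, LinearMap.ker (aeval v).toLinearMap) := by
    ext g
    simp [E, _root_.funext_iff, Submodule.mem_iInf, Subtype.forall]
  have h := E.finrank_range_add_finrank_ker
  rw [hsurj, finrank_top, Module.finrank_fintype_fun_eq_card, Fintype.card_coe, hcard, hker] at h
  have heq : Module.finrank k (Submodule.comap V.subtype (⨅ v ∈ Λ, LinearMap.ker (aeval v).toLinearMap)) =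
      Module.finrank k ↥(V ⊓ ⨅ v ∈ Λ, LinearMap.ker (aeval v).toLinearMap) := by
    refine LinearEquiv.finrank_eq ((Submodule.equivMapOfInjective V.subtype V.injective_subtype _).trans (LinearEquiv.ofEq _ _ ?_))
    rw [Submodule.map_comap_subtype]
  rw [heq, finrank_homogeneousSubmodule, show 3 + (n - 1) - 1 = (n - 1) + 2 by omega] at h
  rw [Nat.choose_symm_add (a := n - 1) (b := 2), show n - 1 + 2 = n + 1 by omega, Nat.add_comm] at h
  exact Nat.eq_sub_of_add_eq h

end Groth.Agent.Forms14

namespace Groth.Agent.Forms14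

universe u'

variable {k : Type u'} [Field k]

/-- Points cut out by forms of degree `n - 1`. -/
theorem exists_prop_of_forms_le (n : ℕ) (Λ' : Finset (Fin 3 → k)) (hcard' : Λ'.card = n) (h0' : ∀ v ∈ Λ', v ≠ 0)
    (hdist' : ∀ v ∈ Λ', ∀ w ∈ Λ', v ≠ w → LinearIndependent k ![v, w])
    (hline' : ¬ ∃ ℓ : (Fin 3 → k) →ₗ[k] k, ℓ ≠ 0 ∧ ∀ v ∈ Λ', ℓ v = 0)
    (v : Fin 3 → k) (hv : v ≠ 0)
    (hle : ∀ p : MvPolynomial (Fin 3) k, p.IsHomogeneous (n - 1) → (∀ w ∈ Λ', eval w p = 0) → eval v p = 0) :
    ∃ w ∈ Λ', ∃ c : k, v = c • w := by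
  classical
  by_contra hh
  push Not at hh
  obtain ⟨w1, hw1, w2, hw2, hne, hspan⟩ : ∃ w1 ∈ Λ', ∃ w2 ∈ Λ', w1 ≠ w2 ∧ v ∉ Submodule.span k {w1, w2} := by
    by_contra hp
    push Not at hp
    rcases Λ'.eq_empty_or_nonempty with he | ⟨w1, hw1⟩
    · obtain ⟨i, hi⟩ := Function.ne_iff.1 hv
      exact hline' ⟨LinearMap.proj i, fun e => hi (by simpa using LinearMap.congr_fun e v), by simp [he]⟩
    let P := Submodule.span k {v, w1}
    have hsub : ∀ w ∈ Λ', w ∈ P := by
      intro w hw
      rcases eq_or_ne w1 w with rfl | hne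
      · exact Submodule.subset_span (Or.inr rfl)
      obtain ⟨a, b, hab⟩ := Submodule.mem_span_pair.1 (hp w1 hw1 w hw hne)
      have hb : b ≠ 0 := fun hb => hh w1 hw1 a (by simp [← hab, hb])
      refine Submodule.mem_span_pair.2 ⟨b⁻¹, -(b⁻¹ * a), ?_⟩
      rw [← hab, smul_add, smul_smul, smul_smul, inv_mul_cancel₀ hb, one_smul, neg_smul]
      abel
    have hfin : Module.finrank k P ≤ 2 :=
      (finrank_span_le_card ({v, w1} : Set (Fin 3 → k))).trans (by
        simpa [Set.toFinset_insert] using Finset.card_le_two)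
    have hPne : P ≠ ⊤ := fun h => by
      rw [h, finrank_top, Module.finrank_fin_fun] at hfin
      omega
    obtain ⟨x, -, hx⟩ := SetLike.exists_of_lt (lt_top_iff_ne_top.2 hPne)
    obtain ⟨φ, hφx, hφ⟩ := Submodule.exists_dual_map_eq_bot_of_notMem hx inferInstance
    refine hline' ⟨φ, fun e => hφx (by simp [e]), fun w hw => ?_⟩
    have h1 : φ w ∈ P.map φ := ⟨w, hsub w hw, rfl⟩
    rwa [hφ, Submodule.mem_bot] at h1
  obtain ⟨φ, hφv, hφ⟩ := Submodule.exists_dual_map_eq_bot_of_notMem hspan inferInstance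
  let L : MvPolynomial (Fin 3) k := ∑ i, C (φ (Pi.single i 1)) * X i
  have hL : L.IsHomogeneous 1 := IsHomogeneous.sum _ _ _ fun i _ => (isHomogeneous_X k i).C_mul _
  have key : ∀ x : Fin 3 → k, eval x L = φ x := fun x => by
    conv_rhs => rw [pi_eq_sum_univ' x]
    simp [L, map_sum, mul_comm]
  have hz : ∀ w ∈ ({w1, w2} : Set (Fin 3 → k)), φ w = 0 := fun w hw => by
    have h1 : φ w ∈ (Submodule.span k {w1, w2}).map φ := ⟨w, Submodule.subset_span hw, rfl⟩
    rwa [hφ, Submodule.mem_bot] at h1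
  let rest := (Λ'.erase w1).erase w2
  have hne' : ∀ w : rest, ∀ c : k, v ≠ c • w.1 := fun w => hh w.1 (Finset.mem_of_mem_erase (Finset.mem_of_mem_erase w.2))
  choose l hl1 hl2 hl3 using fun w : rest => exists_linear_separate hv (hne' w)
  let p := L * ∏ w, l w
  have hp : p.IsHomogeneous (n - 1) := by
    have h2 := hL.mul (IsHomogeneous.prod Finset.univ l (fun _ => 1) fun w _ => hl1 w)
    have hc : rest.card = n - 2 := by
      rw [Finset.card_erase_of_mem (Finset.mem_erase.2 ⟨hne.symm, hw2⟩), Finset.card_erase_of_mem hw1, hcard']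
      omega
    have h2n : 2 ≤ n := hcard' ▸ Finset.one_lt_card.2 ⟨w1, hw1, w2, hw2, hne⟩
    rw [Finset.sum_const, Finset.card_univ, Fintype.card_coe, hc, smul_eq_mul, mul_one,
      show 1 + (n - 2) = n - 1 by omega] at h2
    exact h2
  have h1 := hle p hp fun w hw => by
    rw [map_mul, map_prod]
    by_cases hmem : w ∈ rest
    · rw [Finset.prod_eq_zero (Finset.mem_univ ⟨w, hmem⟩) (hl3 ⟨w, hmem⟩), mul_zero]
    · have : w = w1 ∨ w = w2 := by
        by_contra hcon
        push Not at hcon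
        exact hmem (Finset.mem_erase.2 ⟨hcon.2, Finset.mem_erase.2 ⟨hcon.1, hw⟩⟩)
      rw [key, hz w (by simpa using this), zero_mul]
  rw [map_mul, map_prod, key] at h1
  exact (mul_ne_zero hφv (Finset.prod_ne_zero_iff.2 fun w _ => hl2 w)) h1

end Groth.Agent.Forms14
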