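import Mathlib
import Groth.Agent.IR14.Cone
import Groth.Agent.EGA4Alg4.IntegralDim

set_option autoImplicit false

open MvPolynomial

namespace Groth.Agent.Forms14

universe u v

variable {k : Type u} [Field k] {a b : ℕ}

local notation "σ'" => Fin a ⊕ Fin b
local notation "S'" => MvPolynomial (Fin a ⊕ Fin b) k

/-- The products `x_i y_j`. -/
noncomputable def segGen (ij : Fin a × Fin b) : S' := X (Sum.inl ij.1) * X (Sum.inr ij.2)

/-- Exponents of bidegree `(D, D)`. -/
def Bal (D : ℕ) (d : (Fin a ⊕ Fin b) →₀ ℕ) : Prop := (∑ i, d (Sum.inl i)) = D ∧ (∑ j, d (Sum.inr j)) = D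

instance balDec (D : ℕ) (d : (Fin a ⊕ Fin b) →₀ ℕ) : Decidable (Bal D d) := inferInstanceAs (Decidable (_ ∧ _))

/-- Projection to bidegree `(D, D)`. -/
noncomputable def balPart (D : ℕ) : S' →ₗ[k] S' :=
  (MvPolynomial.basisMonomials _ k).constr k fun d => if Bal D d then monomial d 1 else 0

lemma balPart_monomial (D : ℕ) (d : (Fin a ⊕ Fin b) →₀ ℕ) (c : k) :
    balPart D (monomial d c) = if Bal D d then monomial d c else 0 := by
  have h : balPart D (monomial d (1 : k)) = if Bal D d then monomial d 1 else 0 := by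
    rw [balPart, ← show (MvPolynomial.basisMonomials (Fin a ⊕ Fin b) k) d = monomial d 1 from by simp, Module.Basis.constr_basis]
    simp
  rw [show monomial d c = c • monomial d (1 : k) by rw [smul_monomial, smul_eq_mul, mul_one], map_smul, h]
  split_ifs <;> simp

lemma balPart_mul_gen (D : ℕ) (g : S') (ij : Fin a × Fin b) :
    balPart (D + 1) (g * segGen ij) = balPart D g * segGen ij := by
  induction g using MvPolynomial.induction_on' with
  | monomial d c =>
    have hgen : segGen (k := k) ij = monomial (Finsupp.single (Sum.inl ij.1) 1 + Finsupp.single (Sum.inr ij.2) 1) 1 := by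
      simp [segGen, X, monomial_mul]
    rw [hgen, monomial_mul, mul_one, balPart_monomial, balPart_monomial]
    have h1 : ∀ e : (Fin a ⊕ Fin b) →₀ ℕ, (∑ i, (e + (Finsupp.single (Sum.inl ij.1) (1 : ℕ) + Finsupp.single (Sum.inr ij.2) (1 : ℕ)) : (Fin a ⊕ Fin b) →₀ ℕ) (Sum.inl i))
        = (∑ i, e (Sum.inl i)) + 1 ∧ (∑ j, (e + (Finsupp.single (Sum.inl ij.1) (1 : ℕ) + Finsupp.single (Sum.inr ij.2) (1 : ℕ)) : (Fin a ⊕ Fin b) →₀ ℕ) (Sum.inr j))
        = (∑ j, e (Sum.inr j)) + 1 := fun e => by
      classical
      simp [Finset.sum_add_distrib, Finsupp.single_apply]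
    have h2 : Bal (D + 1) (d + (Finsupp.single (Sum.inl ij.1) 1 + Finsupp.single (Sum.inr ij.2) 1)) ↔ Bal D d := by
      simp only [Bal, (h1 d).1, (h1 d).2]
      omega
    by_cases h : Bal D d
    · rw [if_pos h, if_pos (h2.2 h), monomial_mul, mul_one]
    · rw [if_neg h, if_neg (fun hh => h (h2.1 hh)), zero_mul]
  | add p q hp hq => rw [add_mul, map_add, map_add, hp, hq, add_mul]

/-- The Segre algebra. -/
noncomputable abbrev segAlg (k : Type u) [Field k] (a b : ℕ) : Subalgebra k (MvPolynomial (Fin a ⊕ Fin b) k) :=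
  Algebra.adjoin k (Set.range (segGen (k := k) (a := a) (b := b)))

/-- Degree `D` piece of the Segre algebra. -/
noncomputable abbrev segPiece (k : Type u) [Field k] (a b D : ℕ) : Submodule k (MvPolynomial (Fin a ⊕ Fin b) k) :=
  Submodule.span k (Set.range (segGen (k := k) (a := a) (b := b))) ^ D

lemma monomial_mem_segPiece : ∀ (D : ℕ) (d : (Fin a ⊕ Fin b) →₀ ℕ), Bal D d →
    monomial d (1 : k) ∈ segPiece k a b D := by
  intro D
  induction D with
  | zero =>
    intro d hd
    have : d = 0 := by
      ext s
      cases s with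
      | inl i => exact Finset.sum_eq_zero_iff.1 hd.1 i (Finset.mem_univ i)
      | inr j => exact Finset.sum_eq_zero_iff.1 hd.2 j (Finset.mem_univ j)
    subst this
    rw [segPiece, Submodule.pow_zero, show monomial 0 (1 : k) = (1 : S') from rfl]
    exact Submodule.one_le.1 le_rfl
  | succ D ih =>
    intro d hd
    obtain ⟨i, hi⟩ : ∃ i, 0 < d (Sum.inl i) := by
      by_contra hh; push Not at hh
      have := hd.1
      rw [Finset.sum_eq_zero fun i _ => Nat.le_zero.1 (hh i)] at this
      omega
    obtain ⟨j, hj⟩ : ∃ j, 0 < d (Sum.inr j) := by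
      by_contra hh; push Not at hh
      have := hd.2
      rw [Finset.sum_eq_zero fun i _ => Nat.le_zero.1 (hh i)] at this
      omega
    obtain ⟨e, rfl⟩ : ∃ e, d = e + (Finsupp.single (Sum.inl i) 1 + Finsupp.single (Sum.inr j) 1) := by
      refine ⟨d - (Finsupp.single (Sum.inl i) 1 + Finsupp.single (Sum.inr j) 1), ?_⟩
      ext s
      simp only [Finsupp.add_apply, Finsupp.tsub_apply, Finsupp.single_apply]
      cases s with
      | inl s => rcases eq_or_ne i s with rfl | hne <;> simp [*] <;> omega
      | inr s => rcases eq_or_ne j s with rfl | hne <;> simp [*] <;> omega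
    have he : Bal D e := by
      classical
      obtain ⟨h1, h2⟩ := hd
      simp [Finset.sum_add_distrib, Finsupp.single_apply] at h1 h2
      exact ⟨h1, h2⟩
    rw [segPiece, pow_succ, show monomial (e + (Finsupp.single (Sum.inl i) 1 + Finsupp.single (Sum.inr j) 1)) (1 : k) =
      monomial e 1 * segGen (i, j) by simp [segGen, X, monomial_mul]]
    exact Submodule.mul_mem_mul (ih e he) (Submodule.subset_span ⟨(i, j), rfl⟩)

lemma balPart_mem_segPiece (D : ℕ) (g : S') : balPart D g ∈ segPiece k a b D := by
  induction g using MvPolynomial.induction_on' with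
  | monomial d c =>
    rw [balPart_monomial]
    split_ifs with h
    · rw [show monomial d c = c • monomial d (1 : k) by rw [smul_monomial, smul_eq_mul, mul_one]]
      exact Submodule.smul_mem _ _ (monomial_mem_segPiece D d h)
    · exact zero_mem _
  | add p q hp hq => rw [map_add]; exact add_mem hp hq

lemma balPart_mul_of_mem (D : ℕ) (g : S') {f : S'} (hf : f ∈ Submodule.span k (Set.range (segGen (k := k) (a := a) (b := b)))) :
    balPart (D + 1) (g * f) = balPart D g * f := by
  induction hf using Submodule.span_induction with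
  | mem x hx => obtain ⟨ij, rfl⟩ := hx; exact balPart_mul_gen D g ij
  | zero => simp
  | add p q _ _ hp hq => rw [mul_add, map_add, hp, hq, mul_add]
  | smul c p _ hp => rw [mul_smul_comm, map_smul, hp, mul_smul_comm]

lemma balPart_of_mem : ∀ (D : ℕ) (g : S'), g ∈ segPiece k a b D → balPart D g = g := by
  intro D
  induction D with
  | zero =>
    intro g hg
    rw [segPiece, Submodule.pow_zero, Submodule.one_eq_range] at hg
    obtain ⟨c, rfl⟩ := hg
    rw [Algebra.linearMap_apply, MvPolynomial.algebraMap_eq, show (C c : S') = monomial 0 c from rfl, balPart_monomial,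
      if_pos ⟨by simp, by simp⟩]
  | succ D ih =>
    intro g hg
    rw [segPiece, pow_succ] at hg
    refine Submodule.mul_induction_on hg (fun p hp q hq => ?_) fun p q hp hq => by rw [map_add, hp, hq]
    rw [balPart_mul_of_mem D p hq, ih p hp]

theorem finite_of_zeroLocus [IsAlgClosed k] {w : ℕ} (f : Fin w → S')
    (hf : ∀ l, f l ∈ Submodule.span k (Set.range (segGen (k := k) (a := a) (b := b))))
    (hzero : ∀ x : Fin a ⊕ Fin b → k, (∀ l, eval x (f l) = 0) → ∀ ij, eval x (segGen ij) = 0)
    (g : MvPolynomial (Fin w) k →ₐ[k] segAlg k a b) (hg : ∀ l, (g (X l) : S') = f l) :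
    g.toRingHom.Finite := by
  classical
  letI := g.toRingHom.toAlgebra
  change Module.Finite (MvPolynomial (Fin w) k) (segAlg k a b)
  let J : Ideal S' := Ideal.span (Set.range f)
  let Z : Ideal S' := Ideal.span (Set.range (segGen (k := k) (a := a) (b := b)))
  have hrad : Z ≤ J.radical := by
    rw [← vanishingIdeal_zeroLocus_eq_radical (K := k)]
    refine Ideal.span_le.2 ?_
    rintro _ ⟨ij, rfl⟩ x hx
    rw [aeval_eq_eval]
    refine hzero x (fun l => ?_) ij
    have := hx (f l) (Ideal.subset_span ⟨l, rfl⟩)
    rwa [aeval_eq_eval] at this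
  obtain ⟨N, hN⟩ := Ideal.exists_pow_le_of_le_radical_of_fg hrad (IsNoetherian.noetherian Z)
  have hmemalg : ∀ D, ∀ y ∈ segPiece k a b D, y ∈ segAlg k a b := by
    intro D
    induction D with
    | zero =>
      intro y hy
      rw [segPiece, Submodule.pow_zero, Submodule.one_eq_range] at hy
      obtain ⟨c, rfl⟩ := hy
      exact Subalgebra.algebraMap_mem _ _
    | succ D ih =>
      intro y hy
      rw [segPiece, pow_succ] at hy
      refine Submodule.mul_induction_on hy (fun p hp q hq => ?_) fun p q hp hq => add_mem hp hq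
      exact mul_mem (ih p hp) ((Submodule.span_le (p := Subalgebra.toSubmodule (segAlg k a b))).2 Algebra.subset_adjoin hq)
  have hfgP : ∀ D, (segPiece k a b D).FG := fun D => (Submodule.fg_span (Set.finite_range _)).pow D
  choose G hG using hfgP
  let T : Set (segAlg k a b) := Subtype.val ⁻¹' (⋃ D ∈ Finset.range (N + 1), (G D : Set S'))
  have hT : T.Finite := Set.Finite.preimage Subtype.val_injective.injOn
    (Set.Finite.biUnion (Finset.range (N + 1)).finite_toSet fun D _ => (G D).finite_toSet)
  let M := Submodule.span (MvPolynomial (Fin w) k) T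
  have key : ∀ (D : ℕ) (y : segAlg k a b), (y : S') ∈ segPiece k a b D → y ∈ M := by
    intro D
    induction D using Nat.strong_induction_on with
    | _ D ih =>
      intro y hy
      rcases le_or_gt D N with hD | hD
      · obtain ⟨c, -, hc⟩ := Submodule.mem_span_finset.1 ((hG D).symm ▸ hy : (y : S') ∈ Submodule.span k (G D : Set S'))
        have hmem : ∀ z : G D, (z : S') ∈ segAlg k a b := fun z => hmemalg D z ((hG D) ▸ Submodule.subset_span z.2)
        have : y = ∑ z : G D, (algebraMap k (MvPolynomial (Fin w) k) (c z)) • (⟨z, hmem z⟩ : segAlg k a b) := by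
          apply Subtype.ext
          rw [AddSubmonoidClass.coe_finsetSum, ← hc, ← Finset.sum_coe_sort]
          refine Finset.sum_congr rfl fun z _ => ?_
          rw [Algebra.smul_def, Algebra.smul_def, Subalgebra.coe_mul]
          congr 1
          change algebraMap k S' (c z) = ((g (algebraMap k _ (c z)) : segAlg k a b) : S')
          rw [AlgHom.commutes]
          rfl
        rw [this]
        exact M.sum_mem fun z _ => M.smul_mem _ (Submodule.subset_span
          (Set.mem_biUnion (Finset.mem_coe.2 (Finset.mem_range.2 (Nat.lt_succ_of_le hD))) z.2))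
      · obtain ⟨D', rfl⟩ : ∃ D', D = D' + 1 := ⟨D - 1, by omega⟩
        have hyJ : (y : S') ∈ J := by
          refine hN (Ideal.pow_le_pow_right hD.le ?_)
          have hsub : ∀ E, ∀ x ∈ segPiece k a b E, x ∈ Z ^ E := by
            intro E
            induction E with
            | zero => intro x _; simp
            | succ E ihE =>
              intro x hx
              rw [segPiece, pow_succ] at hx
              refine Submodule.mul_induction_on hx (fun p hp q hq => ?_) fun p q hp hq => add_mem hp hq
              rw [pow_succ]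
              refine Ideal.mul_mem_mul (ihE p hp) ?_
              exact (Submodule.span_le (p := Z.restrictScalars k)).2 Ideal.subset_span hq
          exact hsub _ _ hy
        obtain ⟨c, hc⟩ := Ideal.mem_span_range_iff_exists_fun.1 hyJ
        have : y = ∑ l, (X l : MvPolynomial (Fin w) k) • (⟨balPart D' (c l), hmemalg _ _ (balPart_mem_segPiece _ _)⟩ : segAlg k a b) := by
          apply Subtype.ext
          rw [AddSubmonoidClass.coe_finsetSum]
          conv_lhs => rw [← balPart_of_mem _ _ hy, ← hc, map_sum]
          refine Finset.sum_congr rfl fun l _ => ?_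
          rw [Algebra.smul_def, Subalgebra.coe_mul, balPart_mul_of_mem _ _ (hf l), mul_comm]
          congr 1
          exact (hg l).symm
        rw [this]
        exact M.sum_mem fun l _ => M.smul_mem _ (ih D' (by omega) _ (balPart_mem_segPiece _ _))
  refine ⟨Submodule.fg_def.2 ⟨T, hT, eq_top_iff.2 fun y _ => ?_⟩⟩
  have hsupp : (y : S') ∈ ⨆ D, segPiece k a b D := by
    obtain ⟨y, hy⟩ := y
    change y ∈ _
    rename_i hytop
    clear hytop
    induction hy using Algebra.adjoin_induction with
    | mem x hx => exact Submodule.mem_iSup_of_mem 1 (by rw [segPiece, pow_one]; exact Submodule.subset_span hx)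
    | algebraMap c =>
      refine Submodule.mem_iSup_of_mem 0 ?_
      rw [segPiece, Submodule.pow_zero, Submodule.one_eq_range]
      exact ⟨c, rfl⟩
    | add p q _ _ hp hq => exact add_mem hp hq
    | mul p q _ _ hp hq =>
      have := Submodule.mul_mem_mul hp hq
      rw [Submodule.iSup_mul] at this
      simp only [Submodule.mul_iSup, ← pow_add] at this
      exact (iSup_le fun i => iSup_le fun j => le_iSup (segPiece k a b) (i + j)) this
  rw [Submodule.mem_iSup_iff_exists_finsupp] at hsupp
  obtain ⟨s, hs, hsum⟩ := hsupp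
  have : y = ∑ D ∈ s.support, (⟨s D, hmemalg D _ (hs D)⟩ : segAlg k a b) := by
    apply Subtype.ext
    rw [AddSubmonoidClass.coe_finsetSum]
    exact hsum.symm
  rw [this]
  exact Submodule.sum_mem _ fun D _ => key D _ (hs D)

theorem exists_indep [Infinite k] (a b : ℕ) :
    ∃ φ : MvPolynomial (Fin (b + 1 + a)) k →ₐ[k] segAlg k (a + 1) (b + 1), Function.Injective φ := by
  let z : Fin (b + 1 + a) → segAlg k (a + 1) (b + 1) := Fin.append
    (fun j => ⟨segGen (0, j), Algebra.subset_adjoin ⟨_, rfl⟩⟩)
    (fun i => ⟨segGen (i.succ, 0), Algebra.subset_adjoin ⟨_, rfl⟩⟩)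
  refine ⟨aeval z, (injective_iff_map_eq_zero _).2 fun p hp => ?_⟩
  have h0 : p * X (Fin.castAdd a 0) = 0 := by
    refine MvPolynomial.funext fun c => ?_
    rw [map_mul, eval_X, map_zero]
    by_cases hc : c (Fin.castAdd a 0) = 0
    · rw [hc, mul_zero]
    let x : Fin (a + 1) ⊕ Fin (b + 1) → k := Sum.elim
      (Fin.cons 1 fun i => c (Fin.natAdd (b + 1) i) / c (Fin.castAdd a 0)) fun j => c (Fin.castAdd a j)
    let ev : segAlg k (a + 1) (b + 1) →ₐ[k] k := (aeval (R := k) x).comp (segAlg k (a + 1) (b + 1)).val
    have hev : ∀ l, ev (z l) = c l := by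
      intro l
      induction l using Fin.addCases with
      | left j => simp [z, ev, segGen, x]
      | right i => simp [z, ev, segGen, x, div_mul_cancel₀ _ hc]
    have h1 := congrArg ev hp
    rw [map_zero, ← AlgHom.comp_apply, comp_aeval, show (fun l => ev (z l)) = c from funext hev, aeval_eq_eval] at h1
    rw [h1, zero_mul]
  rcases mul_eq_zero.1 h0 with h | h
  · exact h
  · exact absurd h (X_ne_zero _)

theorem oneGeneric [IsAlgClosed k] (U V W : Type v) [AddCommGroup U] [Module k U] [AddCommGroup V] [Module k V]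
    [AddCommGroup W] [Module k W] [Module.Finite k U] [Module.Finite k V] [Module.Finite k W] [Nontrivial U]
    [Nontrivial V] (φ : U →ₗ[k] V →ₗ[k] W) (hφ : ∀ (x : U) (y : V), x ≠ 0 → y ≠ 0 → φ x y ≠ 0) :
    Module.finrank k U + Module.finrank k V ≤ Module.finrank k W + 1 := by
  classical
  obtain ⟨a, ha⟩ := Nat.exists_eq_succ_of_ne_zero (Module.finrank_pos (R := k) (M := U)).ne'
  obtain ⟨b, hb⟩ := Nat.exists_eq_succ_of_ne_zero (Module.finrank_pos (R := k) (M := V)).ne'
  let bu := Module.finBasisOfFinrankEq k U ha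
  let bv := Module.finBasisOfFinrankEq k V hb
  let bw := Module.finBasis k W
  let F := segAlg k (a + 1) (b + 1)
  let f : Fin (Module.finrank k W) → MvPolynomial (Fin (a + 1) ⊕ Fin (b + 1)) k := fun l =>
    ∑ ij : Fin (a + 1) × Fin (b + 1), bw.repr (φ (bu ij.1) (bv ij.2)) l • segGen ij
  have hf : ∀ l, f l ∈ Submodule.span k (Set.range (segGen (k := k) (a := a + 1) (b := b + 1))) := fun l =>
    Submodule.sum_mem _ fun ij _ => Submodule.smul_mem _ _ (Submodule.subset_span ⟨ij, rfl⟩)
  have hfF : ∀ l, f l ∈ F := fun l =>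
    (Submodule.span_le (p := Subalgebra.toSubmodule F)).2 Algebra.subset_adjoin (hf l)
  have hzero : ∀ x : Fin (a + 1) ⊕ Fin (b + 1) → k, (∀ l, eval x (f l) = 0) → ∀ ij, eval x (segGen ij) = 0 := by
    intro x hx ij
    let xu := ∑ i, x (Sum.inl i) • bu i
    let yv := ∑ j, x (Sum.inr j) • bv j
    have hxy : φ xu yv = 0 := by
      apply bw.repr.injective
      ext l
      rw [map_zero, Finsupp.zero_apply, ← hx l]
      simp only [xu, yv, f, map_sum, LinearMap.sum_apply, map_smul, LinearMap.smul_apply, Finsupp.finsetSum_apply,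
        Finsupp.smul_apply, smul_eq_mul, smul_eval, segGen, map_mul, eval_X, Fintype.sum_prod_type, Finset.mul_sum]
      exact Finset.sum_comm.trans (Finset.sum_congr rfl fun i _ => Finset.sum_congr rfl fun j _ => by ring)
    simp only [segGen, map_mul, eval_X]
    by_cases hxu : xu = 0
    · have : x (Sum.inl ij.1) = 0 := (Fintype.linearIndependent_iff.1 bu.linearIndependent) (fun i => x (Sum.inl i)) hxu ij.1
      rw [this, zero_mul]
    · have hyv : yv = 0 := by
        by_contra h
        exact hφ xu yv hxu h hxy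
      have : x (Sum.inr ij.2) = 0 := (Fintype.linearIndependent_iff.1 bv.linearIndependent) (fun i => x (Sum.inr i)) hyv ij.2
      rw [this, mul_zero]
  let g : MvPolynomial (Fin (Module.finrank k W)) k →ₐ[k] F := aeval fun l => ⟨f l, hfF l⟩
  have hgfin := finite_of_zeroLocus f hf hzero g fun l => by simp [g]
  obtain ⟨ψ, hψ⟩ := exists_indep (k := k) a b
  have : Algebra.FiniteType k F := ⟨Subalgebra.fg_top _ |>.2 (Subalgebra.fg_def.2 ⟨_, Set.finite_range _, rfl⟩)⟩
  have h1 := IR14.le_ringKrullDim_of_injective ψ hψ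
  letI := g.toRingHom.toAlgebra
  have : Module.Finite (MvPolynomial (Fin (Module.finrank k W)) k) F := hgfin
  have h2 := h1.trans (EGA4Alg4.ringKrullDim_le_of_integral (MvPolynomial (Fin (Module.finrank k W)) k) F)
  rw [MvPolynomial.ringKrullDim_of_isNoetherianRing, ringKrullDim_eq_zero_of_field] at h2
  simp only [zero_add, Nat.card_eq_fintype_card, Fintype.card_fin] at h2
  have h3 : b + 1 + a ≤ Module.finrank k W := by exact_mod_cast h2
  omega

end Groth.Agent.Forms14
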