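import Groth.Agent.GrSyz54.Res
import Groth.Agent.Minor14.HilbertBurch
import Groth.Agent.Forms14.Basic

set_option autoImplicit false

open MvPolynomial

namespace Groth.Agent.Forms14

universe u

variable {k : Type u} [Field k]

open Groth.Agent.GrSyz54 in
/-- Length one resolution, with matrix entries in the irrelevant ideal, of a homogeneous ideal with a
regular element of positive degree on the quotient. -/
theorem exists_minimal_resolution (I : Ideal (MvPolynomial (Fin 3) k))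
    (hhom : ∀ (d : ℤ) p, p ∈ I → cmp (GrSyz.stdGr k (Fin 3)) d p ∈ I) (hproper : I ≤ m₀)
    (h : MvPolynomial (Fin 3) k) (hm : h ∈ (m₀ : Ideal (MvPolynomial (Fin 3) k)))
    (hreg : ∀ p, h * p ∈ I → p ∈ I) :
    ∃ (n m : ℕ) (Ψ : Matrix (Fin n) (Fin m) (MvPolynomial (Fin 3) k))
      (π : (Fin n → MvPolynomial (Fin 3) k) →ₗ[MvPolynomial (Fin 3) k] MvPolynomial (Fin 3) k),
      LinearMap.ker Ψ.mulVecLin = ⊥ ∧ LinearMap.ker π = LinearMap.range Ψ.mulVecLin ∧
        LinearMap.range π = I ∧ ∀ a b, Ψ a b ∈ (m₀ : Ideal (MvPolynomial (Fin 3) k)) := by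
  classical
  let S := MvPolynomial (Fin 3) k
  let z0 : Fin 1 → ℤ := fun _ => 0
  let N : Submodule S (Fin 1 → S) := Submodule.comap (LinearMap.proj (0 : Fin 1)) I
  obtain ⟨n₁, deg₁, d₀, hd₀g, hd₀r, hd₀m⟩ := exists_min_cover (ℳ := freeGr (k := k) (σ := Fin 3) z0) N
    (fun x hx d => by
      change cmp _ d x 0 ∈ I
      rw [cmp_freeGr_apply]
      exact hhom _ _ hx)
  let St := Σ' (n m : ℕ) (dn : Fin n → ℤ) (dm : Fin m → ℤ),
    {h : (Fin m → S) →ₗ[S] (Fin n → S) //
      GrLC.IsGrHom (freeGr dm) (freeGr dn) h ∧ ∀ v, h v = 0 → ∀ b, v b ∈ m₀}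
  have step : ∀ t : St, ∃ (m' : ℕ) (dm' : Fin m' → ℤ) (h' : (Fin m' → S) →ₗ[S] (Fin t.2.1 → S)),
      GrLC.IsGrHom (freeGr dm') (freeGr t.2.2.2.1) h' ∧
        LinearMap.range h' = LinearMap.ker t.2.2.2.2.1 ∧ ∀ v, h' v = 0 → ∀ b, v b ∈ m₀ :=
    fun t => exists_min_cover (ℳ := freeGr t.2.2.2.1) (LinearMap.ker t.2.2.2.2.1)
      (fun x hx d => cmp_mem_ker _ _ t.2.2.2.2.2.1 hx d)
  choose nx dx hx hxg hxr hxm using step
  let next : St → St := fun t => ⟨t.2.1, nx t, t.2.2.2.1, dx t, hx t, hxg t, hxm t⟩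
  let seq : ℕ → St := fun i => Nat.rec ⟨1, n₁, z0, deg₁, d₀, hd₀g, hd₀m⟩ (fun _ t => next t) i
  let C : FC S :=
    { ι := fun i => Fin (seq i).1
      fin := fun _ => inferInstance
      d := fun i => (seq i).2.2.2.2.1 }
  let ε : (Fin 1 → S) →ₗ[S] S ⧸ I := I.mkQ ∘ₗ LinearMap.proj 0
  have hexact : C.IsExact := fun i => (hxr (seq i)).symm
  have hC : FC.IsRes C ε := by
    refine ⟨I.mkQ_surjective.comp fun s => ⟨fun _ => s, rfl⟩, ?_, hexact⟩
    ext v
    change ε v = 0 ↔ v ∈ LinearMap.range d₀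
    rw [hd₀r]
    exact Submodule.Quotient.mk_eq_zero I
  have hmin : ∀ i, C.MinAt (m₀) i := by
    intro i
    cases i with
    | zero =>
      intro v a
      have hv : d₀ v ∈ N := hd₀r ▸ LinearMap.mem_range_self d₀ v
      obtain rfl : a = (0 : Fin 1) := Subsingleton.elim (α := Fin 1) _ _
      exact hproper hv
    | succ i => exact fun v a => (seq i).2.2.2.2.2.2 _ (hexact.d_d i v) a
  let φ : ∀ i, (C.ι i → S) →ₗ[S] (C.ι i → S) := fun _ => h • LinearMap.id
  let fM : (S ⧸ I) →ₗ[S] (S ⧸ I) := h • LinearMap.id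
  have hf : Function.Injective fM := by
    rw [injective_iff_map_eq_zero]
    intro x hx
    obtain ⟨p, rfl⟩ := Submodule.Quotient.mk_surjective _ x
    simp only [fM, LinearMap.smul_apply, LinearMap.id_apply, ← Submodule.Quotient.mk_smul,
      Submodule.Quotient.mk_eq_zero] at hx ⊢
    exact hreg p hx
  have hcone := FC.cone_isRes hC hC φ fM (LinearMap.range fM).mkQ hf (Submodule.mkQ_surjective _)
    (Submodule.ker_mkQ _).symm (fun v => by simp [φ, fM]) (fun i v => by simp [φ])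
  have hcmin : ∀ i, (FC.cone C C φ).MinAt m₀ (i + 1) := by
    intro i w a
    rw [FC.cone_d_succ]
    rcases a with a | a
    · exact neg_mem (hmin i _ a)
    · refine add_mem ?_ (hmin (i + 1) _ a)
      exact Ideal.mul_mem_right _ _ hm
  have hempty : IsEmpty (C.ι 3 ⊕ C.ι 4) :=
    FC.isEmpty_of_minimal 3 3 le_rfl (FC.cone C C φ) hcone.exact_succ (hcmin 2) (hcmin 3)
  have h3 : IsEmpty (C.ι 3) := (isEmpty_sum.1 hempty).1
  refine ⟨n₁, (seq 2).1, LinearMap.toMatrix' (C.d 1), LinearMap.proj (0 : Fin 1) ∘ₗ d₀, ?_, ?_, ?_, ?_⟩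
  · rw [show (LinearMap.toMatrix' (C.d 1)).mulVecLin = C.d 1 from Matrix.toLin'_toMatrix' _, eq_bot_iff]
    intro v hv
    obtain ⟨u, rfl⟩ := hexact.exists_of_ker (LinearMap.mem_ker.1 hv)
    rw [show u = 0 from funext fun b => isEmptyElim (α := C.ι 3) b, map_zero]
    exact zero_mem _
  · rw [show (LinearMap.toMatrix' (C.d 1)).mulVecLin = C.d 1 from Matrix.toLin'_toMatrix' _]
    refine le_antisymm (fun v hv => ?_) ?_
    · refine hexact.exists_of_ker (i := 0) (v := v) (funext fun a => ?_)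
      rw [Subsingleton.elim (α := Fin 1) a 0]
      exact hv
    · rintro _ ⟨u, rfl⟩
      rw [LinearMap.mem_ker, LinearMap.comp_apply]
      exact congrFun (hexact.d_d 0 u) (0 : Fin 1)
  · rw [LinearMap.range_comp, hd₀r, Submodule.map_comap_eq_of_surjective]
    exact fun s => ⟨fun _ => s, rfl⟩
  · intro a b
    rw [LinearMap.toMatrix'_apply]
    exact hmin 1 _ a

theorem exists_nonvanishing_form {r : ℕ} (Z : Finset (Fin (r + 1) → k)) (hZ : ∀ p ∈ Z, p ≠ 0) :
    ∃ (e : ℕ) (h : MvPolynomial (Fin (r + 1)) k), 1 ≤ e ∧ h.IsHomogeneous e ∧ ∀ p ∈ Z, eval p h ≠ 0 := by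
  classical
  induction Z using Finset.induction_on with
  | empty => exact ⟨1, X 0, le_rfl, isHomogeneous_X k 0, by simp⟩
  | @insert p Z hp ih =>
    obtain ⟨e, h, he, hh, hev⟩ := ih fun w hw => hZ w (Finset.mem_insert_of_mem hw)
    have hp0 := hZ p (Finset.mem_insert_self p Z)
    by_cases hzero : eval p h = 0
    swap
    · exact ⟨e, h, he, hh, fun w hw => (Finset.mem_insert.1 hw).elim (fun e => e ▸ hzero) (hev w)⟩
    obtain ⟨i, hi⟩ := Function.ne_iff.1 hp0
    rcases Z.eq_empty_or_nonempty with rfl | hne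
    · exact ⟨1, X i, le_rfl, isHomogeneous_X k i, fun w hw => by
        rw [Finset.mem_insert] at hw
        rcases hw with rfl | hw
        · simpa using hi
        · simp at hw⟩
    have hnp : ∀ w : Z, ∀ c : k, p ≠ c • w.1 := by
      intro w c hc
      apply hev w.1 w.2
      have hc0 : c ≠ 0 := fun h0 => hp0 (by rw [hc, h0, zero_smul])
      have h1 : eval p h = c ^ e * eval w.1 h := by
        rw [hc, eval_eq', eval_eq', Finset.mul_sum]
        refine Finset.sum_congr rfl fun d hd => ?_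
        have hdeg : ∑ j, d j = e := by
          rw [← Finsupp.degree_eq_sum, ← hh (MvPolynomial.mem_support_iff.1 hd), Finsupp.degree_eq_weight_one]
          rfl
        simp only [Pi.smul_apply, smul_eq_mul, mul_pow, Finset.prod_mul_distrib, Finset.prod_pow_eq_pow_sum, hdeg]
        ring
      rw [hzero] at h1
      exact (mul_eq_zero.1 h1.symm).resolve_left (pow_ne_zero _ hc0)
    choose l hl1 hl2 hl3 using fun w : Z => exists_linear_separate hp0 (hnp w)
    let G := ∏ w, l w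
    have hG : G.IsHomogeneous Z.card := by
      have := IsHomogeneous.prod Finset.univ l (fun _ => 1) fun w _ => hl1 w
      rwa [Finset.sum_const, Finset.card_univ, Fintype.card_coe, smul_eq_mul, mul_one] at this
    refine ⟨e * Z.card, h ^ Z.card + G ^ e, Nat.one_le_iff_ne_zero.2 (Nat.mul_ne_zero (by omega) hne.card_pos.ne'),
      (hh.pow _).add (Nat.mul_comm e Z.card ▸ hG.pow e), fun w hw => ?_⟩
    rw [map_add, map_pow, map_pow, map_prod]
    rcases Finset.mem_insert.1 hw with rfl | hw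
    · rw [hzero, zero_pow hne.card_pos.ne', zero_add]
      exact pow_ne_zero _ (Finset.prod_ne_zero_iff.2 fun w _ => hl2 w)
    · rw [Finset.prod_eq_zero (Finset.mem_univ ⟨w, hw⟩) (hl3 ⟨w, hw⟩), zero_pow (by omega), add_zero]
      exact pow_ne_zero _ (hev w hw)

theorem minorIdeal_le_pow {R : Type u} [CommRing R] (J : Ideal R) {n m : ℕ} (Ψ : Matrix (Fin n) (Fin m) R)
    (h : ∀ a b, Ψ a b ∈ J) : CAlgX.minorIdeal Ψ m ≤ J ^ m := by
  refine Ideal.span_le.2 ?_
  rintro _ ⟨⟨f, g⟩, rfl⟩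
  change (Ψ.submatrix f g).det ∈ J ^ m
  rw [Matrix.det_apply]
  refine sum_mem fun σ _ => ?_
  rw [Units.smul_def]
  refine zsmul_mem ?_ _
  have h1 : ∏ i, Ψ.submatrix f g (σ i) i ∈ ∏ _i : Fin m, J := Ideal.prod_mem_prod fun i _ => h _ _
  rwa [Finset.prod_const, Finset.card_univ, Fintype.card_fin] at h1

theorem exists_resolution_points (Z : Finset (Fin 3 → k)) (hZ : ∀ p ∈ Z, p ≠ 0) (I : Ideal (MvPolynomial (Fin 3) k))
    (hI : ∀ f : MvPolynomial (Fin 3) k, f ∈ I ↔
      ∀ p ∈ Z, ∀ j : ℕ, eval p (homogeneousComponent j f) = 0) :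
    ∃ (t : ℕ) (Ψ : Matrix (Fin (t + 1)) (Fin t) (MvPolynomial (Fin 3) k))
      (π : (Fin (t + 1) → MvPolynomial (Fin 3) k) →ₗ[MvPolynomial (Fin 3) k] MvPolynomial (Fin 3) k),
      LinearMap.ker Ψ.mulVecLin = ⊥ ∧ LinearMap.ker π = LinearMap.range Ψ.mulVecLin ∧ LinearMap.range π = I ∧
        ∀ (d : ℕ) (f : MvPolynomial (Fin 3) k), f ∈ I → f.IsHomogeneous d → f ≠ 0 → t ≤ d := by
  classical
  rcases Z.eq_empty_or_nonempty with rfl | ⟨p₀, hp₀⟩
  · have htop : I = ⊤ := eq_top_iff.2 fun f _ => (hI f).2 (by simp)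
    refine ⟨0, 0, LinearMap.proj 0, ?_, ?_, ?_, fun d f _ _ _ => Nat.zero_le d⟩
    · exact eq_bot_iff.2 fun v _ => by simp [Subsingleton.elim v 0]
    · rw [Matrix.mulVecLin_zero, LinearMap.range_zero, eq_bot_iff]
      intro v hv
      rw [Submodule.mem_bot]
      funext i
      rw [Fin.eq_zero i]
      exact hv
    · rw [htop]
      exact LinearMap.range_eq_top.2 fun s => ⟨fun _ => s, rfl⟩
  obtain ⟨e, h, he, hh, hev⟩ := exists_nonvanishing_form Z hZ
  have hproper : I ≤ RingHom.ker constantCoeff := fun f hf => by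
    have := (hI f).1 hf p₀ hp₀ 0
    rwa [homogeneousComponent_zero, eval_C] at this
  have hcm : ∀ (d : ℤ) p, p ∈ I → GrSyz54.cmp (GrSyz.stdGr k (Fin 3)) d p ∈ I := by
    intro d p hp
    rw [hI]
    intro q hq j
    by_cases hdj : (j : ℤ) = d
    · have : homogeneousComponent j (GrSyz54.cmp (GrSyz.stdGr k (Fin 3)) d p) = homogeneousComponent j p := by
        ext x
        rw [coeff_homogeneousComponent, coeff_homogeneousComponent, GrSyz54.coeff_cmp]
        split_ifs with h1 h2 <;> first | rfl | (exfalso; omega)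
      rw [this]
      exact (hI p).1 hp q hq j
    · have : homogeneousComponent j (GrSyz54.cmp (GrSyz.stdGr k (Fin 3)) d p) = 0 := by
        ext x
        rw [coeff_homogeneousComponent, GrSyz54.coeff_cmp, coeff_zero]
        split_ifs with h1 h2 <;> first | rfl | (exfalso; omega)
      rw [this, map_zero]
  have hm : h ∈ RingHom.ker (constantCoeff : MvPolynomial (Fin 3) k →+* k) := by
    rw [RingHom.mem_ker, constantCoeff_eq]
    exact hh.coeff_eq_zero (by simp; omega)
  have hreg : ∀ p, h * p ∈ I → p ∈ I := by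
    intro p hp
    rw [hI] at hp ⊢
    intro q hq j
    have h1 := hp q hq (e + j)
    conv_lhs at h1 => rw [← sum_homogeneousComponent p, Finset.mul_sum, map_sum]
    rw [Finset.sum_congr rfl fun i _ => homogeneousComponent_of_mem (hh.mul (homogeneousComponent_isHomogeneous i p))] at h1
    simp only [Nat.add_left_cancel_iff, Finset.sum_ite_eq, Finset.mem_range] at h1
    split_ifs at h1 with hj
    · rw [map_mul] at h1
      exact (mul_eq_zero.1 h1).resolve_left (hev q hq)
    · rw [homogeneousComponent_eq_zero _ _ (by omega), map_zero]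
  obtain ⟨n, m, Ψ, π, h1, h2, h3, h4⟩ := exists_minimal_resolution I hcm hproper h hm hreg
  have hform : ∀ p : Z, ∃ l : MvPolynomial (Fin 3) k, l.IsHomogeneous 1 ∧ l ≠ 0 ∧ eval p.1 l = 0 := by
    intro p
    obtain ⟨i, hi⟩ := Function.ne_iff.1 (hZ p.1 p.2)
    obtain ⟨j, hj⟩ := exists_ne i
    refine ⟨C (p.1 i) * X j - C (p.1 j) * X i, ((isHomogeneous_X k j).C_mul _).sub ((isHomogeneous_X k i).C_mul _),
      fun h0 => hi ?_, by simp; ring⟩
    have h1 := congrArg (MvPolynomial.coeff (Finsupp.single j 1)) h0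
    simpa [coeff_C_mul, MvPolynomial.coeff_X, Finsupp.single_left_inj, hj.symm, hj] using h1
  choose l hl1 hl2 hl3 using hform
  have hne : LinearMap.range π ≠ ⊥ := by
    rw [h3]
    have hP : (∏ p : Z, l p).IsHomogeneous Z.card := by
      have := IsHomogeneous.prod Finset.univ l (fun _ => 1) fun w _ => hl1 w
      rwa [Finset.sum_const, Finset.card_univ, Fintype.card_coe, smul_eq_mul, mul_one] at this
    refine (Submodule.ne_bot_iff _).2 ⟨∏ p : Z, l p, (hI _).2 fun q hq j => ?_, Finset.prod_ne_zero_iff.2 fun p _ => hl2 p⟩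
    rw [homogeneousComponent_of_mem hP]
    split_ifs
    · rw [map_prod]
      exact Finset.prod_eq_zero (Finset.mem_univ ⟨q, hq⟩) (hl3 ⟨q, hq⟩)
    · exact map_zero _
  obtain ⟨hn, ⟨a, -, ha⟩, -⟩ := Minor14.length_one_resolution m n Ψ π (by exact h1) h2 hne
  subst hn
  refine ⟨m, Ψ, π, h1, h2, h3, fun d f hf hhom hf0 => ?_⟩
  have hle : I ≤ (MvPolynomial.idealOfVars (Fin 3) k) ^ m := by
    rw [← h3, ha]
    refine Ideal.mul_le_right.trans (minorIdeal_le_pow _ Ψ fun a b => ?_)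
    have : Ψ a b ∈ (GrSyz.irrel (GrSyz.stdGr k (Fin 3))).toIdeal := by
      rw [GrSyz54.irrel_eq_ker]; exact h4 a b
    rwa [GrSyz54.irrel_eq_span_X] at this
  by_contra hlt
  obtain ⟨x, hx⟩ := MvPolynomial.ne_zero_iff.1 hf0
  refine hx ((MvPolynomial.mem_pow_idealOfVars_iff' _ _ |>.1 (hle hf)) x ?_)
  have : x.degree = d := by
    rw [← hhom hx, Finsupp.degree_eq_weight_one]
    rfl
  omega

end Groth.Agent.Forms14
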