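import Mathlib

set_option autoImplicit false

open MvPolynomial

namespace Groth.Agent.Forms14

universe u v

theorem isFiniteLength_of_associatedPrimes_isMaximal {R : Type u} [CommRing R] [IsNoetherianRing R] {T : Type v}
    [AddCommGroup T] [Module R T] [Module.Finite R T] (h : ∀ P ∈ associatedPrimes R T, P.IsMaximal) :
    IsFiniteLength R T := by
  let a := Module.annihilator R T
  have hmax : ∀ P : Ideal R, P.IsPrime → a ≤ P → P.IsMaximal := by
    intro P hP hle
    obtain ⟨Q, hQ, hQP⟩ := Ideal.exists_minimalPrimes_le hle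
    have hQmax := h Q (Module.associatedPrimes.minimalPrimes_annihilator_subset_associatedPrimes R T hQ)
    exact (hQmax.eq_of_le hP.ne_top hQP) ▸ hQmax
  have hart : IsArtinianRing (R ⧸ a) := by
    rw [isArtinianRing_iff_krullDimLE_zero]
    refine Ring.KrullDimLE.mk₀ fun P hP => ?_
    have h1 := hmax (P.comap (Ideal.Quotient.mk a)) (Ideal.comap_isPrime _ _)
      (fun x hx => by simp [Ideal.mem_comap, Ideal.Quotient.eq_zero_iff_mem.2 hx])
    have h2 := Ideal.map_comap_of_surjective (Ideal.Quotient.mk a) Ideal.Quotient.mk_surjective P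
    rcases Ideal.map_eq_top_or_isMaximal_of_surjective (Ideal.Quotient.mk a) Ideal.Quotient.mk_surjective h1 with h3 | h3
    · rw [h2] at h3; exact absurd h3 hP.ne_top
    · rwa [h2] at h3
  letI : Module (R ⧸ a) T := (Module.isTorsionBySet_annihilator (R := R) (M := T)).module
  have : IsScalarTower R (R ⧸ a) T := (Module.isTorsionBySet_annihilator (R := R) (M := T)).isScalarTower
  have : Module.Finite (R ⧸ a) T := Module.Finite.of_restrictScalars_finite R _ _
  have : IsArtinian (R ⧸ a) T := isArtinian_of_fg_of_artinian'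
  have : IsArtinian R T := isArtinian_of_surjective_algebraMap (R := R ⧸ a) (S := R) Ideal.Quotient.mk_surjective
  exact isFiniteLength_iff_isNoetherian_isArtinian.2 ⟨inferInstance, this⟩

theorem exists_quasiRegular_form {k : Type u} [Field k] [Infinite k] (r d : ℕ) (M : Type u) [AddCommGroup M]
    [Module (MvPolynomial (Fin (r + 1)) k) M] [Module.Finite (MvPolynomial (Fin (r + 1)) k) M] :
    ∃ f : MvPolynomial (Fin (r + 1)) k, f.IsHomogeneous d ∧ f ≠ 0 ∧
      IsFiniteLength (MvPolynomial (Fin (r + 1)) k) ↥(Submodule.torsionBy (MvPolynomial (Fin (r + 1)) k) M f) := by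
  classical
  let S := MvPolynomial (Fin (r + 1)) k
  let V := homogeneousSubmodule (Fin (r + 1)) k d
  let A : Set (Ideal S) := {P ∈ associatedPrimes S M | ¬ P.IsMaximal}
  have hAfin : A.Finite := (associatedPrimes.finite S M).subset fun P hP => hP.1
  let Q : Option A → Submodule k V := fun o => o.elim ⊥ fun P => ((P : Ideal S).restrictScalars k).comap V.subtype
  have hXd : ∀ i : Fin (r + 1), (X i : S) ^ d ∈ V := fun i => isHomogeneous_X_pow i d
  have hQ : ∀ o, Q o ≠ ⊤ := by
    intro o htop
    cases o with
    | none =>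
      have := (Submodule.eq_top_iff'.1 htop) ⟨_, hXd 0⟩
      exact pow_ne_zero d (X_ne_zero (0 : Fin (r + 1))) (congrArg Subtype.val (Submodule.mem_bot k |>.1 this))
    | some P =>
      obtain ⟨P, hP, hnmax⟩ := P
      have hprime : P.IsPrime := hP.isPrime
      have hX : ∀ i, (X i : S) ∈ P := fun i => hprime.mem_of_pow_mem d ((Submodule.eq_top_iff'.1 htop) ⟨_, hXd i⟩)
      refine hnmax ?_
      have heq : P = RingHom.ker (constantCoeff : S →+* k) := by
        have hle : RingHom.ker (constantCoeff : S →+* k) ≤ P := by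
          intro p hp
          rw [← MvPolynomial.support_sum_monomial_coeff p]
          refine sum_mem fun e he => ?_
          have he0 : e ≠ 0 := fun h0 => MvPolynomial.mem_support_iff.1 he (h0 ▸ (RingHom.mem_ker.1 hp :))
          obtain ⟨i, hi⟩ := Finsupp.ne_iff.1 he0
          simp only [Finsupp.coe_zero, Pi.zero_apply] at hi
          rw [monomial_eq]
          refine P.mul_mem_left _ ?_
          rw [Finsupp.prod, ← Finset.mul_prod_erase _ _ (Finsupp.mem_support_iff.2 hi)]
          exact P.mul_mem_right _ (P.pow_mem_of_mem (hX i) _ (Nat.pos_of_ne_zero hi))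
        exact ((RingHom.ker_isMaximal_of_surjective (constantCoeff : S →+* k)
          fun c => ⟨C c, constantCoeff_C _ c⟩).eq_of_le hprime.ne_top hle).symm
      rw [heq]
      exact RingHom.ker_isMaximal_of_surjective _ fun c => ⟨C c, constantCoeff_C _ c⟩
  have : Finite A := hAfin.to_subtype
  obtain ⟨⟨f, hf⟩, hfQ⟩ := Submodule.exists_forall_notMem_of_forall_ne_top Q hQ
  refine ⟨f, hf, fun h0 => hfQ none (by simp [Q, Submodule.mem_bot, h0]), ?_⟩
  refine isFiniteLength_of_associatedPrimes_isMaximal fun P hP => ?_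
  by_contra hmax
  have hPM : P ∈ associatedPrimes S M :=
    associatedPrimes.subset_of_injective (Submodule.injective_subtype (Submodule.torsionBy S M f)) hP
  refine hfQ (some ⟨P, hPM, hmax⟩) ?_
  change f ∈ P
  refine hP.annihilator_le ?_
  rw [Submodule.mem_annihilator]
  exact fun x _ => Subtype.ext ((Submodule.mem_torsionBy_iff f x.1).1 x.2)

end Groth.Agent.Forms14
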